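import Cfsg.Agent.Lib.Helper35.Fi22Ord.Y1.Data

set_option Elab.async false

namespace Cfsg.Agent.Lib.Helper35.Fi22Ord.Y1

open Cfsg.Agent.Lib.Helper35

theorem s0c0 : allBelow (fun k => fs0 (Nat.add (Nat.succ 0) k)) 3245 = true := by decide +kernel
theorem s0u0 : ∀ v, 1 ≤ v → v ≤ 3245 → fs0 v = true := slots_step fs0 0 3245 3245 (slots_zero fs0) s0c0 rfl
theorem s0c1 : allBelow (fun k => fs0 (Nat.add (Nat.succ 3245) k)) 3586 = true := by decide +kernel
theorem s0u1 : ∀ v, 1 ≤ v → v ≤ 6831 → fs0 v = true := slots_step fs0 3245 3586 6831 s0u0 s0c1 rfl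
theorem s0c2 : allBelow (fun k => fs0 (Nat.add (Nat.succ 6831) k)) 3832 = true := by decide +kernel
theorem s0u2 : ∀ v, 1 ≤ v → v ≤ 10663 → fs0 v = true := slots_step fs0 6831 3832 10663 s0u1 s0c2 rfl
theorem s0c3 : allBelow (fun k => fs0 (Nat.add (Nat.succ 10663) k)) 4154 = true := by decide +kernel
theorem s0u3 : ∀ v, 1 ≤ v → v ≤ 14817 → fs0 v = true := slots_step fs0 10663 4154 14817 s0u2 s0c3 rfl
theorem s0c4 : allBelow (fun k => fs0 (Nat.add (Nat.succ 14817) k)) 3876 = true := by decide +kernel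
theorem s0u4 : ∀ v, 1 ≤ v → v ≤ 18693 → fs0 v = true := slots_step fs0 14817 3876 18693 s0u3 s0c4 rfl
theorem s0c5 : allBelow (fun k => fs0 (Nat.add (Nat.succ 18693) k)) 4258 = true := by decide +kernel
theorem s0u5 : ∀ v, 1 ≤ v → v ≤ 22951 → fs0 v = true := slots_step fs0 18693 4258 22951 s0u4 s0c5 rfl
theorem s0c6 : allBelow (fun k => fs0 (Nat.add (Nat.succ 22951) k)) 4080 = true := by decide +kernel
theorem s0u6 : ∀ v, 1 ≤ v → v ≤ 27031 → fs0 v = true := slots_step fs0 22951 4080 27031 s0u5 s0c6 rfl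
theorem s0c7 : allBelow (fun k => fs0 (Nat.add (Nat.succ 27031) k)) 2561 = true := by decide +kernel
theorem s0u7 : ∀ v, 1 ≤ v → v ≤ 29592 → fs0 v = true := slots_step fs0 27031 2561 29592 s0u6 s0c7 rfl
theorem s1c0 : allBelow (fun k => fs1 (Nat.add (Nat.succ 0) k)) 3134 = true := by decide +kernel
theorem s1u0 : ∀ v, 1 ≤ v → v ≤ 3134 → fs1 v = true := slots_step fs1 0 3134 3134 (slots_zero fs1) s1c0 rfl
theorem s1c1 : allBelow (fun k => fs1 (Nat.add (Nat.succ 3134) k)) 3409 = true := by decide +kernel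
theorem s1u1 : ∀ v, 1 ≤ v → v ≤ 6543 → fs1 v = true := slots_step fs1 3134 3409 6543 s1u0 s1c1 rfl
theorem s1c2 : allBelow (fun k => fs1 (Nat.add (Nat.succ 6543) k)) 3611 = true := by decide +kernel
theorem s1u2 : ∀ v, 1 ≤ v → v ≤ 10154 → fs1 v = true := slots_step fs1 6543 3611 10154 s1u1 s1c2 rfl
theorem s1c3 : allBelow (fun k => fs1 (Nat.add (Nat.succ 10154) k)) 3826 = true := by decide +kernel
theorem s1u3 : ∀ v, 1 ≤ v → v ≤ 13980 → fs1 v = true := slots_step fs1 10154 3826 13980 s1u2 s1c3 rfl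
theorem s1c4 : allBelow (fun k => fs1 (Nat.add (Nat.succ 13980) k)) 3560 = true := by decide +kernel
theorem s1u4 : ∀ v, 1 ≤ v → v ≤ 17540 → fs1 v = true := slots_step fs1 13980 3560 17540 s1u3 s1c4 rfl
theorem s1c5 : allBelow (fun k => fs1 (Nat.add (Nat.succ 17540) k)) 3708 = true := by decide +kernel
theorem s1u5 : ∀ v, 1 ≤ v → v ≤ 21248 → fs1 v = true := slots_step fs1 17540 3708 21248 s1u4 s1c5 rfl
theorem s1c6 : allBelow (fun k => fs1 (Nat.add (Nat.succ 21248) k)) 3946 = true := by decide +kernel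
theorem s1u6 : ∀ v, 1 ≤ v → v ≤ 25194 → fs1 v = true := slots_step fs1 21248 3946 25194 s1u5 s1c6 rfl
theorem s1c7 : allBelow (fun k => fs1 (Nat.add (Nat.succ 25194) k)) 4032 = true := by decide +kernel
theorem s1u7 : ∀ v, 1 ≤ v → v ≤ 29226 → fs1 v = true := slots_step fs1 25194 4032 29226 s1u6 s1c7 rfl
theorem s1c8 : allBelow (fun k => fs1 (Nat.add (Nat.succ 29226) k)) 366 = true := by decide +kernel
theorem s1u8 : ∀ v, 1 ≤ v → v ≤ 29592 → fs1 v = true := slots_step fs1 29226 366 29592 s1u7 s1c8 rfl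
theorem s2c0 : allBelow (fun k => fs2 (Nat.add (Nat.succ 0) k)) 3045 = true := by decide +kernel
theorem s2u0 : ∀ v, 1 ≤ v → v ≤ 3045 → fs2 v = true := slots_step fs2 0 3045 3045 (slots_zero fs2) s2c0 rfl
theorem s2c1 : allBelow (fun k => fs2 (Nat.add (Nat.succ 3045) k)) 3127 = true := by decide +kernel
theorem s2u1 : ∀ v, 1 ≤ v → v ≤ 6172 → fs2 v = true := slots_step fs2 3045 3127 6172 s2u0 s2c1 rfl
theorem s2c2 : allBelow (fun k => fs2 (Nat.add (Nat.succ 6172) k)) 3175 = true := by decide +kernel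
theorem s2u2 : ∀ v, 1 ≤ v → v ≤ 9347 → fs2 v = true := slots_step fs2 6172 3175 9347 s2u1 s2c2 rfl
theorem s2c3 : allBelow (fun k => fs2 (Nat.add (Nat.succ 9347) k)) 3332 = true := by decide +kernel
theorem s2u3 : ∀ v, 1 ≤ v → v ≤ 12679 → fs2 v = true := slots_step fs2 9347 3332 12679 s2u2 s2c3 rfl
theorem s2c4 : allBelow (fun k => fs2 (Nat.add (Nat.succ 12679) k)) 3404 = true := by decide +kernel
theorem s2u4 : ∀ v, 1 ≤ v → v ≤ 16083 → fs2 v = true := slots_step fs2 12679 3404 16083 s2u3 s2c4 rfl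
theorem s2c5 : allBelow (fun k => fs2 (Nat.add (Nat.succ 16083) k)) 3533 = true := by decide +kernel
theorem s2u5 : ∀ v, 1 ≤ v → v ≤ 19616 → fs2 v = true := slots_step fs2 16083 3533 19616 s2u4 s2c5 rfl
theorem s2c6 : allBelow (fun k => fs2 (Nat.add (Nat.succ 19616) k)) 3540 = true := by decide +kernel
theorem s2u6 : ∀ v, 1 ≤ v → v ≤ 23156 → fs2 v = true := slots_step fs2 19616 3540 23156 s2u5 s2c6 rfl
theorem s2c7 : allBelow (fun k => fs2 (Nat.add (Nat.succ 23156) k)) 3755 = true := by decide +kernel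
theorem s2u7 : ∀ v, 1 ≤ v → v ≤ 26911 → fs2 v = true := slots_step fs2 23156 3755 26911 s2u6 s2c7 rfl
theorem s2c8 : allBelow (fun k => fs2 (Nat.add (Nat.succ 26911) k)) 2681 = true := by decide +kernel
theorem s2u8 : ∀ v, 1 ≤ v → v ≤ 29592 → fs2 v = true := slots_step fs2 26911 2681 29592 s2u7 s2c8 rfl
theorem s3c0 : allBelow (fun k => fs3 (Nat.add (Nat.succ 0) k)) 2773 = true := by decide +kernel
theorem s3u0 : ∀ v, 1 ≤ v → v ≤ 2773 → fs3 v = true := slots_step fs3 0 2773 2773 (slots_zero fs3) s3c0 rfl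
theorem s3c1 : allBelow (fun k => fs3 (Nat.add (Nat.succ 2773) k)) 2890 = true := by decide +kernel
theorem s3u1 : ∀ v, 1 ≤ v → v ≤ 5663 → fs3 v = true := slots_step fs3 2773 2890 5663 s3u0 s3c1 rfl
theorem s3c2 : allBelow (fun k => fs3 (Nat.add (Nat.succ 5663) k)) 2912 = true := by decide +kernel
theorem s3u2 : ∀ v, 1 ≤ v → v ≤ 8575 → fs3 v = true := slots_step fs3 5663 2912 8575 s3u1 s3c2 rfl
theorem s3c3 : allBelow (fun k => fs3 (Nat.add (Nat.succ 8575) k)) 3025 = true := by decide +kernel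
theorem s3u3 : ∀ v, 1 ≤ v → v ≤ 11600 → fs3 v = true := slots_step fs3 8575 3025 11600 s3u2 s3c3 rfl
theorem s3c4 : allBelow (fun k => fs3 (Nat.add (Nat.succ 11600) k)) 3154 = true := by decide +kernel
theorem s3u4 : ∀ v, 1 ≤ v → v ≤ 14754 → fs3 v = true := slots_step fs3 11600 3154 14754 s3u3 s3c4 rfl
theorem s3c5 : allBelow (fun k => fs3 (Nat.add (Nat.succ 14754) k)) 3139 = true := by decide +kernel
theorem s3u5 : ∀ v, 1 ≤ v → v ≤ 17893 → fs3 v = true := slots_step fs3 14754 3139 17893 s3u4 s3c5 rfl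
theorem s3c6 : allBelow (fun k => fs3 (Nat.add (Nat.succ 17893) k)) 3208 = true := by decide +kernel
theorem s3u6 : ∀ v, 1 ≤ v → v ≤ 21101 → fs3 v = true := slots_step fs3 17893 3208 21101 s3u5 s3c6 rfl
theorem s3c7 : allBelow (fun k => fs3 (Nat.add (Nat.succ 21101) k)) 3243 = true := by decide +kernel
theorem s3u7 : ∀ v, 1 ≤ v → v ≤ 24344 → fs3 v = true := slots_step fs3 21101 3243 24344 s3u6 s3c7 rfl
theorem s3c8 : allBelow (fun k => fs3 (Nat.add (Nat.succ 24344) k)) 3411 = true := by decide +kernel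
theorem s3u8 : ∀ v, 1 ≤ v → v ≤ 27755 → fs3 v = true := slots_step fs3 24344 3411 27755 s3u7 s3c8 rfl
theorem s3c9 : allBelow (fun k => fs3 (Nat.add (Nat.succ 27755) k)) 1837 = true := by decide +kernel
theorem s3u9 : ∀ v, 1 ≤ v → v ≤ 29592 → fs3 v = true := slots_step fs3 27755 1837 29592 s3u8 s3c9 rfl
theorem s4c0 : allBelow (fun k => fs4 (Nat.add (Nat.succ 0) k)) 2963 = true := by decide +kernel
theorem s4u0 : ∀ v, 1 ≤ v → v ≤ 2963 → fs4 v = true := slots_step fs4 0 2963 2963 (slots_zero fs4) s4c0 rfl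
theorem s4c1 : allBelow (fun k => fs4 (Nat.add (Nat.succ 2963) k)) 3011 = true := by decide +kernel
theorem s4u1 : ∀ v, 1 ≤ v → v ≤ 5974 → fs4 v = true := slots_step fs4 2963 3011 5974 s4u0 s4c1 rfl
theorem s4c2 : allBelow (fun k => fs4 (Nat.add (Nat.succ 5974) k)) 3057 = true := by decide +kernel
theorem s4u2 : ∀ v, 1 ≤ v → v ≤ 9031 → fs4 v = true := slots_step fs4 5974 3057 9031 s4u1 s4c2 rfl
theorem s4c3 : allBelow (fun k => fs4 (Nat.add (Nat.succ 9031) k)) 3116 = true := by decide +kernel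
theorem s4u3 : ∀ v, 1 ≤ v → v ≤ 12147 → fs4 v = true := slots_step fs4 9031 3116 12147 s4u2 s4c3 rfl
theorem s4c4 : allBelow (fun k => fs4 (Nat.add (Nat.succ 12147) k)) 3212 = true := by decide +kernel
theorem s4u4 : ∀ v, 1 ≤ v → v ≤ 15359 → fs4 v = true := slots_step fs4 12147 3212 15359 s4u3 s4c4 rfl
theorem s4c5 : allBelow (fun k => fs4 (Nat.add (Nat.succ 15359) k)) 3186 = true := by decide +kernel
theorem s4u5 : ∀ v, 1 ≤ v → v ≤ 18545 → fs4 v = true := slots_step fs4 15359 3186 18545 s4u4 s4c5 rfl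
theorem s4c6 : allBelow (fun k => fs4 (Nat.add (Nat.succ 18545) k)) 3268 = true := by decide +kernel
theorem s4u6 : ∀ v, 1 ≤ v → v ≤ 21813 → fs4 v = true := slots_step fs4 18545 3268 21813 s4u5 s4c6 rfl
theorem s4c7 : allBelow (fun k => fs4 (Nat.add (Nat.succ 21813) k)) 3478 = true := by decide +kernel
theorem s4u7 : ∀ v, 1 ≤ v → v ≤ 25291 → fs4 v = true := slots_step fs4 21813 3478 25291 s4u6 s4c7 rfl
theorem s4c8 : allBelow (fun k => fs4 (Nat.add (Nat.succ 25291) k)) 3456 = true := by decide +kernel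
theorem s4u8 : ∀ v, 1 ≤ v → v ≤ 28747 → fs4 v = true := slots_step fs4 25291 3456 28747 s4u7 s4c8 rfl
theorem s4c9 : allBelow (fun k => fs4 (Nat.add (Nat.succ 28747) k)) 845 = true := by decide +kernel
theorem s4u9 : ∀ v, 1 ≤ v → v ≤ 29592 → fs4 v = true := slots_step fs4 28747 845 29592 s4u8 s4c9 rfl
theorem s5c0 : allBelow (fun k => fs5 (Nat.add (Nat.succ 0) k)) 3023 = true := by decide +kernel
theorem s5u0 : ∀ v, 1 ≤ v → v ≤ 3023 → fs5 v = true := slots_step fs5 0 3023 3023 (slots_zero fs5) s5c0 rfl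
theorem s5c1 : allBelow (fun k => fs5 (Nat.add (Nat.succ 3023) k)) 3008 = true := by decide +kernel
theorem s5u1 : ∀ v, 1 ≤ v → v ≤ 6031 → fs5 v = true := slots_step fs5 3023 3008 6031 s5u0 s5c1 rfl
theorem s5c2 : allBelow (fun k => fs5 (Nat.add (Nat.succ 6031) k)) 3052 = true := by decide +kernel
theorem s5u2 : ∀ v, 1 ≤ v → v ≤ 9083 → fs5 v = true := slots_step fs5 6031 3052 9083 s5u1 s5c2 rfl
theorem s5c3 : allBelow (fun k => fs5 (Nat.add (Nat.succ 9083) k)) 3105 = true := by decide +kernel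
theorem s5u3 : ∀ v, 1 ≤ v → v ≤ 12188 → fs5 v = true := slots_step fs5 9083 3105 12188 s5u2 s5c3 rfl
theorem s5c4 : allBelow (fun k => fs5 (Nat.add (Nat.succ 12188) k)) 3166 = true := by decide +kernel
theorem s5u4 : ∀ v, 1 ≤ v → v ≤ 15354 → fs5 v = true := slots_step fs5 12188 3166 15354 s5u3 s5c4 rfl
theorem s5c5 : allBelow (fun k => fs5 (Nat.add (Nat.succ 15354) k)) 3224 = true := by decide +kernel
theorem s5u5 : ∀ v, 1 ≤ v → v ≤ 18578 → fs5 v = true := slots_step fs5 15354 3224 18578 s5u4 s5c5 rfl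
theorem s5c6 : allBelow (fun k => fs5 (Nat.add (Nat.succ 18578) k)) 3228 = true := by decide +kernel
theorem s5u6 : ∀ v, 1 ≤ v → v ≤ 21806 → fs5 v = true := slots_step fs5 18578 3228 21806 s5u5 s5c6 rfl
theorem s5c7 : allBelow (fun k => fs5 (Nat.add (Nat.succ 21806) k)) 3380 = true := by decide +kernel
theorem s5u7 : ∀ v, 1 ≤ v → v ≤ 25186 → fs5 v = true := slots_step fs5 21806 3380 25186 s5u6 s5c7 rfl
theorem s5c8 : allBelow (fun k => fs5 (Nat.add (Nat.succ 25186) k)) 3479 = true := by decide +kernel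
theorem s5u8 : ∀ v, 1 ≤ v → v ≤ 28665 → fs5 v = true := slots_step fs5 25186 3479 28665 s5u7 s5c8 rfl
theorem s5c9 : allBelow (fun k => fs5 (Nat.add (Nat.succ 28665) k)) 927 = true := by decide +kernel
theorem s5u9 : ∀ v, 1 ≤ v → v ≤ 29592 → fs5 v = true := slots_step fs5 28665 927 29592 s5u8 s5c9 rfl
theorem s6c0 : allBelow (fun k => fs6 (Nat.add (Nat.succ 0) k)) 3149 = true := by decide +kernel
theorem s6u0 : ∀ v, 1 ≤ v → v ≤ 3149 → fs6 v = true := slots_step fs6 0 3149 3149 (slots_zero fs6) s6c0 rfl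
theorem s6c1 : allBelow (fun k => fs6 (Nat.add (Nat.succ 3149) k)) 3124 = true := by decide +kernel
theorem s6u1 : ∀ v, 1 ≤ v → v ≤ 6273 → fs6 v = true := slots_step fs6 3149 3124 6273 s6u0 s6c1 rfl
theorem s6c2 : allBelow (fun k => fs6 (Nat.add (Nat.succ 6273) k)) 3277 = true := by decide +kernel
theorem s6u2 : ∀ v, 1 ≤ v → v ≤ 9550 → fs6 v = true := slots_step fs6 6273 3277 9550 s6u1 s6c2 rfl
theorem s6c3 : allBelow (fun k => fs6 (Nat.add (Nat.succ 9550) k)) 3318 = true := by decide +kernel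
theorem s6u3 : ∀ v, 1 ≤ v → v ≤ 12868 → fs6 v = true := slots_step fs6 9550 3318 12868 s6u2 s6c3 rfl
theorem s6c4 : allBelow (fun k => fs6 (Nat.add (Nat.succ 12868) k)) 3343 = true := by decide +kernel
theorem s6u4 : ∀ v, 1 ≤ v → v ≤ 16211 → fs6 v = true := slots_step fs6 12868 3343 16211 s6u3 s6c4 rfl
theorem s6c5 : allBelow (fun k => fs6 (Nat.add (Nat.succ 16211) k)) 3373 = true := by decide +kernel
theorem s6u5 : ∀ v, 1 ≤ v → v ≤ 19584 → fs6 v = true := slots_step fs6 16211 3373 19584 s6u4 s6c5 rfl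
theorem s6c6 : allBelow (fun k => fs6 (Nat.add (Nat.succ 19584) k)) 3481 = true := by decide +kernel
theorem s6u6 : ∀ v, 1 ≤ v → v ≤ 23065 → fs6 v = true := slots_step fs6 19584 3481 23065 s6u5 s6c6 rfl
theorem s6c7 : allBelow (fun k => fs6 (Nat.add (Nat.succ 23065) k)) 3643 = true := by decide +kernel
theorem s6u7 : ∀ v, 1 ≤ v → v ≤ 26708 → fs6 v = true := slots_step fs6 23065 3643 26708 s6u6 s6c7 rfl
theorem s6c8 : allBelow (fun k => fs6 (Nat.add (Nat.succ 26708) k)) 2884 = true := by decide +kernel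
theorem s6u8 : ∀ v, 1 ≤ v → v ≤ 29592 → fs6 v = true := slots_step fs6 26708 2884 29592 s6u7 s6c8 rfl
theorem s7c0 : allBelow (fun k => fs7 (Nat.add (Nat.succ 0) k)) 2853 = true := by decide +kernel
theorem s7u0 : ∀ v, 1 ≤ v → v ≤ 2853 → fs7 v = true := slots_step fs7 0 2853 2853 (slots_zero fs7) s7c0 rfl
theorem s7c1 : allBelow (fun k => fs7 (Nat.add (Nat.succ 2853) k)) 2916 = true := by decide +kernel
theorem s7u1 : ∀ v, 1 ≤ v → v ≤ 5769 → fs7 v = true := slots_step fs7 2853 2916 5769 s7u0 s7c1 rfl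
theorem s7c2 : allBelow (fun k => fs7 (Nat.add (Nat.succ 5769) k)) 3014 = true := by decide +kernel
theorem s7u2 : ∀ v, 1 ≤ v → v ≤ 8783 → fs7 v = true := slots_step fs7 5769 3014 8783 s7u1 s7c2 rfl
theorem s7c3 : allBelow (fun k => fs7 (Nat.add (Nat.succ 8783) k)) 3134 = true := by decide +kernel
theorem s7u3 : ∀ v, 1 ≤ v → v ≤ 11917 → fs7 v = true := slots_step fs7 8783 3134 11917 s7u2 s7c3 rfl
theorem s7c4 : allBelow (fun k => fs7 (Nat.add (Nat.succ 11917) k)) 3136 = true := by decide +kernel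
theorem s7u4 : ∀ v, 1 ≤ v → v ≤ 15053 → fs7 v = true := slots_step fs7 11917 3136 15053 s7u3 s7c4 rfl
theorem s7c5 : allBelow (fun k => fs7 (Nat.add (Nat.succ 15053) k)) 3276 = true := by decide +kernel
theorem s7u5 : ∀ v, 1 ≤ v → v ≤ 18329 → fs7 v = true := slots_step fs7 15053 3276 18329 s7u4 s7c5 rfl
theorem s7c6 : allBelow (fun k => fs7 (Nat.add (Nat.succ 18329) k)) 3216 = true := by decide +kernel
theorem s7u6 : ∀ v, 1 ≤ v → v ≤ 21545 → fs7 v = true := slots_step fs7 18329 3216 21545 s7u5 s7c6 rfl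
theorem s7c7 : allBelow (fun k => fs7 (Nat.add (Nat.succ 21545) k)) 3575 = true := by decide +kernel
theorem s7u7 : ∀ v, 1 ≤ v → v ≤ 25120 → fs7 v = true := slots_step fs7 21545 3575 25120 s7u6 s7c7 rfl
theorem s7c8 : allBelow (fun k => fs7 (Nat.add (Nat.succ 25120) k)) 3478 = true := by decide +kernel
theorem s7u8 : ∀ v, 1 ≤ v → v ≤ 28598 → fs7 v = true := slots_step fs7 25120 3478 28598 s7u7 s7c8 rfl
theorem s7c9 : allBelow (fun k => fs7 (Nat.add (Nat.succ 28598) k)) 994 = true := by decide +kernel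
theorem s7u9 : ∀ v, 1 ≤ v → v ≤ 29592 → fs7 v = true := slots_step fs7 28598 994 29592 s7u8 s7c9 rfl
theorem s8c0 : allBelow (fun k => fs8 (Nat.add (Nat.succ 0) k)) 3020 = true := by decide +kernel
theorem s8u0 : ∀ v, 1 ≤ v → v ≤ 3020 → fs8 v = true := slots_step fs8 0 3020 3020 (slots_zero fs8) s8c0 rfl
theorem s8c1 : allBelow (fun k => fs8 (Nat.add (Nat.succ 3020) k)) 3076 = true := by decide +kernel
theorem s8u1 : ∀ v, 1 ≤ v → v ≤ 6096 → fs8 v = true := slots_step fs8 3020 3076 6096 s8u0 s8c1 rfl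
theorem s8c2 : allBelow (fun k => fs8 (Nat.add (Nat.succ 6096) k)) 3050 = true := by decide +kernel
theorem s8u2 : ∀ v, 1 ≤ v → v ≤ 9146 → fs8 v = true := slots_step fs8 6096 3050 9146 s8u1 s8c2 rfl
theorem s8c3 : allBelow (fun k => fs8 (Nat.add (Nat.succ 9146) k)) 3114 = true := by decide +kernel
theorem s8u3 : ∀ v, 1 ≤ v → v ≤ 12260 → fs8 v = true := slots_step fs8 9146 3114 12260 s8u2 s8c3 rfl
theorem s8c4 : allBelow (fun k => fs8 (Nat.add (Nat.succ 12260) k)) 3099 = true := by decide +kernel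
theorem s8u4 : ∀ v, 1 ≤ v → v ≤ 15359 → fs8 v = true := slots_step fs8 12260 3099 15359 s8u3 s8c4 rfl
theorem s8c5 : allBelow (fun k => fs8 (Nat.add (Nat.succ 15359) k)) 3181 = true := by decide +kernel
theorem s8u5 : ∀ v, 1 ≤ v → v ≤ 18540 → fs8 v = true := slots_step fs8 15359 3181 18540 s8u4 s8c5 rfl
theorem s8c6 : allBelow (fun k => fs8 (Nat.add (Nat.succ 18540) k)) 3157 = true := by decide +kernel
theorem s8u6 : ∀ v, 1 ≤ v → v ≤ 21697 → fs8 v = true := slots_step fs8 18540 3157 21697 s8u5 s8c6 rfl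
theorem s8c7 : allBelow (fun k => fs8 (Nat.add (Nat.succ 21697) k)) 3324 = true := by decide +kernel
theorem s8u7 : ∀ v, 1 ≤ v → v ≤ 25021 → fs8 v = true := slots_step fs8 21697 3324 25021 s8u6 s8c7 rfl
theorem s8c8 : allBelow (fun k => fs8 (Nat.add (Nat.succ 25021) k)) 3306 = true := by decide +kernel
theorem s8u8 : ∀ v, 1 ≤ v → v ≤ 28327 → fs8 v = true := slots_step fs8 25021 3306 28327 s8u7 s8c8 rfl
theorem s8c9 : allBelow (fun k => fs8 (Nat.add (Nat.succ 28327) k)) 1265 = true := by decide +kernel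
theorem s8u9 : ∀ v, 1 ≤ v → v ≤ 29592 → fs8 v = true := slots_step fs8 28327 1265 29592 s8u8 s8c9 rfl
theorem s9c0 : allBelow (fun k => fs9 (Nat.add (Nat.succ 0) k)) 1169 = true := by decide +kernel
theorem s9u0 : ∀ v, 1 ≤ v → v ≤ 1169 → fs9 v = true := slots_step fs9 0 1169 1169 (slots_zero fs9) s9c0 rfl
theorem s9c1 : allBelow (fun k => fs9 (Nat.add (Nat.succ 1169) k)) 1232 = true := by decide +kernel
theorem s9u1 : ∀ v, 1 ≤ v → v ≤ 2401 → fs9 v = true := slots_step fs9 1169 1232 2401 s9u0 s9c1 rfl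
theorem s9c2 : allBelow (fun k => fs9 (Nat.add (Nat.succ 2401) k)) 1296 = true := by decide +kernel
theorem s9u2 : ∀ v, 1 ≤ v → v ≤ 3697 → fs9 v = true := slots_step fs9 2401 1296 3697 s9u1 s9c2 rfl
theorem s9c3 : allBelow (fun k => fs9 (Nat.add (Nat.succ 3697) k)) 1252 = true := by decide +kernel
theorem s9u3 : ∀ v, 1 ≤ v → v ≤ 4949 → fs9 v = true := slots_step fs9 3697 1252 4949 s9u2 s9c3 rfl
theorem s9c4 : allBelow (fun k => fs9 (Nat.add (Nat.succ 4949) k)) 1289 = true := by decide +kernel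
theorem s9u4 : ∀ v, 1 ≤ v → v ≤ 6238 → fs9 v = true := slots_step fs9 4949 1289 6238 s9u3 s9c4 rfl
theorem s9c5 : allBelow (fun k => fs9 (Nat.add (Nat.succ 6238) k)) 1341 = true := by decide +kernel
theorem s9u5 : ∀ v, 1 ≤ v → v ≤ 7579 → fs9 v = true := slots_step fs9 6238 1341 7579 s9u4 s9c5 rfl
theorem s9c6 : allBelow (fun k => fs9 (Nat.add (Nat.succ 7579) k)) 1337 = true := by decide +kernel
theorem s9u6 : ∀ v, 1 ≤ v → v ≤ 8916 → fs9 v = true := slots_step fs9 7579 1337 8916 s9u5 s9c6 rfl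
theorem s9c7 : allBelow (fun k => fs9 (Nat.add (Nat.succ 8916) k)) 1367 = true := by decide +kernel
theorem s9u7 : ∀ v, 1 ≤ v → v ≤ 10283 → fs9 v = true := slots_step fs9 8916 1367 10283 s9u6 s9c7 rfl
theorem s9c8 : allBelow (fun k => fs9 (Nat.add (Nat.succ 10283) k)) 1399 = true := by decide +kernel
theorem s9u8 : ∀ v, 1 ≤ v → v ≤ 11682 → fs9 v = true := slots_step fs9 10283 1399 11682 s9u7 s9c8 rfl
theorem s9c9 : allBelow (fun k => fs9 (Nat.add (Nat.succ 11682) k)) 1427 = true := by decide +kernel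
theorem s9u9 : ∀ v, 1 ≤ v → v ≤ 13109 → fs9 v = true := slots_step fs9 11682 1427 13109 s9u8 s9c9 rfl
theorem s9c10 : allBelow (fun k => fs9 (Nat.add (Nat.succ 13109) k)) 1429 = true := by decide +kernel
theorem s9u10 : ∀ v, 1 ≤ v → v ≤ 14538 → fs9 v = true := slots_step fs9 13109 1429 14538 s9u9 s9c10 rfl
theorem s9c11 : allBelow (fun k => fs9 (Nat.add (Nat.succ 14538) k)) 1408 = true := by decide +kernel
theorem s9u11 : ∀ v, 1 ≤ v → v ≤ 15946 → fs9 v = true := slots_step fs9 14538 1408 15946 s9u10 s9c11 rfl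
theorem s9c12 : allBelow (fun k => fs9 (Nat.add (Nat.succ 15946) k)) 1463 = true := by decide +kernel
theorem s9u12 : ∀ v, 1 ≤ v → v ≤ 17409 → fs9 v = true := slots_step fs9 15946 1463 17409 s9u11 s9c12 rfl
theorem s9c13 : allBelow (fun k => fs9 (Nat.add (Nat.succ 17409) k)) 1486 = true := by decide +kernel
theorem s9u13 : ∀ v, 1 ≤ v → v ≤ 18895 → fs9 v = true := slots_step fs9 17409 1486 18895 s9u12 s9c13 rfl
theorem s9c14 : allBelow (fun k => fs9 (Nat.add (Nat.succ 18895) k)) 1534 = true := by decide +kernel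
theorem s9u14 : ∀ v, 1 ≤ v → v ≤ 20429 → fs9 v = true := slots_step fs9 18895 1534 20429 s9u13 s9c14 rfl
theorem s9c15 : allBelow (fun k => fs9 (Nat.add (Nat.succ 20429) k)) 1560 = true := by decide +kernel
theorem s9u15 : ∀ v, 1 ≤ v → v ≤ 21989 → fs9 v = true := slots_step fs9 20429 1560 21989 s9u14 s9c15 rfl
theorem s9c16 : allBelow (fun k => fs9 (Nat.add (Nat.succ 21989) k)) 1541 = true := by decide +kernel
theorem s9u16 : ∀ v, 1 ≤ v → v ≤ 23530 → fs9 v = true := slots_step fs9 21989 1541 23530 s9u15 s9c16 rfl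
theorem s9c17 : allBelow (fun k => fs9 (Nat.add (Nat.succ 23530) k)) 1517 = true := by decide +kernel
theorem s9u17 : ∀ v, 1 ≤ v → v ≤ 25047 → fs9 v = true := slots_step fs9 23530 1517 25047 s9u16 s9c17 rfl
theorem s9c18 : allBelow (fun k => fs9 (Nat.add (Nat.succ 25047) k)) 1560 = true := by decide +kernel
theorem s9u18 : ∀ v, 1 ≤ v → v ≤ 26607 → fs9 v = true := slots_step fs9 25047 1560 26607 s9u17 s9c18 rfl
theorem s9c19 : allBelow (fun k => fs9 (Nat.add (Nat.succ 26607) k)) 1562 = true := by decide +kernel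
theorem s9u19 : ∀ v, 1 ≤ v → v ≤ 28169 → fs9 v = true := slots_step fs9 26607 1562 28169 s9u18 s9c19 rfl
theorem s9c20 : allBelow (fun k => fs9 (Nat.add (Nat.succ 28169) k)) 1423 = true := by decide +kernel
theorem s9u20 : ∀ v, 1 ≤ v → v ≤ 29592 → fs9 v = true := slots_step fs9 28169 1423 29592 s9u19 s9c20 rfl
theorem gz : countBelow gl 0 = 0 := rfl
theorem gk0 : countBelow (fun k => gl (Nat.add 0 k)) 11671 = 1 := by decide +kernel
theorem gn0 : countBelow gl 11671 = 1 := countBelow_step gl 0 11671 11671 0 1 1 gz gk0 rfl rfl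
theorem gk1 : countBelow (fun k => gl (Nat.add 11671 k)) 11671 = 0 := by decide +kernel
theorem gn1 : countBelow gl 23342 = 1 := countBelow_step gl 11671 11671 23342 1 0 1 gn0 gk1 rfl rfl
theorem gk2 : countBelow (fun k => gl (Nat.add 23342 k)) 6250 = 0 := by decide +kernel
theorem gn2 : countBelow gl 29592 = 1 := countBelow_step gl 23342 6250 29592 1 0 1 gn1 gk2 rfl rfl

end Cfsg.Agent.Lib.Helper35.Fi22Ord.Y1
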